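import Groth.Agent.DefTCodim2.Main

/-! Passing between exactness over `A'/JA'` and exactness on the closed fibre. -/

universe u

open IsLocalRing
open scoped Matrix TensorProduct

namespace Groth.Agent.DefTCodim2

open Groth.Agent.McCoy

theorem exactMod_of_map {A B : Type u} [CommRing A] [CommRing B] (f : A →+* B) (hf : Function.Surjective f)
    {N : Ideal A} (hN : RingHom.ker f ≤ N) {r : ℕ} (φ : Matrix (Fin (r + 1)) (Fin r) A)
    (h : ExactMod (φ.map f) (N.map f)) : ExactMod φ N := by
  have hmem : ∀ x, f x ∈ N.map f → x ∈ N := fun x hx => by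
    have : x ∈ (N.map f).comap f := hx
    rwa [Ideal.comap_map_of_surjective f hf, ← RingHom.ker_eq_comap_bot, sup_eq_left.2 hN] at this
  have hd : ∀ v : Fin (r + 1) → A, dmap (φ.map f) (fun i => f (v i)) = f (dmap φ v) := fun v => by
    simp [dmap_apply, map_delta, map_sum]
  have hm : ∀ (w : Fin r → A) (i), ((φ.map f) *ᵥ fun j => f (w j)) i = f ((φ *ᵥ w) i) := fun w i =>
    (RingHom.map_mulVec f φ w i).symm
  refine ⟨fun v hv => ?_, fun w hw j => hmem _ (h.inj (fun j => f (w j)) (fun i => ?_) j)⟩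
  · obtain ⟨w, hw⟩ := h.middle (fun i => f (v i)) (by rw [hd]; exact Ideal.mem_map_of_mem _ hv)
    choose w' hw' using fun j => hf (w j)
    obtain rfl : (fun j => f (w' j)) = w := funext hw'
    refine ⟨w', fun i => hmem _ ?_⟩
    rw [map_sub, ← hm]
    exact hw i
  · rw [hm]; exact Ideal.mem_map_of_mem _ (hw i)

variable {C' : Type u} [CommRing C'] [IsLocalRing C'] [IsArtinianRing C'] (J : Ideal C')
  {A' : Type u} [CommRing A'] [Algebra C' A'] [Module.Flat C' A']

omit [IsLocalRing C'] [IsArtinianRing C'] in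
theorem flat_quot : Module.Flat (C' ⧸ J) (A' ⧸ J.map (algebraMap C' A')) := by
  have e1 : ((C' ⧸ J) ⊗[C'] A') ≃ₗ[C'] (A' ⧸ J.map (algebraMap C' A')) :=
    (TensorProduct.quotTensorEquivQuotSMul A' J).trans
      ((Submodule.quotEquivOfEq _ _ (Ideal.smul_top_eq_map J)).trans
        (Submodule.Quotient.restrictScalarsEquiv C' (J.map (algebraMap C' A'))))
  have hsurj : Function.Surjective (algebraMap C' (C' ⧸ J)) := Ideal.Quotient.mk_surjective
  exact Module.Flat.of_linearEquiv (e1.extendScalarsOfSurjective hsurj).symm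

theorem exactMod_of_exact (hJ : J ≠ ⊤) {r : ℕ} (φ : Matrix (Fin (r + 1)) (Fin r) A')
    (hi : Function.Injective (φ.map (Ideal.Quotient.mk (J.map (algebraMap C' A')))).mulVecLin)
    (hr : LinearMap.range (φ.map (Ideal.Quotient.mk (J.map (algebraMap C' A')))).mulVecLin =
      LinearMap.ker (dmap (φ.map (Ideal.Quotient.mk (J.map (algebraMap C' A'))))))
    (hf : Module.Flat (C' ⧸ J) ((A' ⧸ J.map (algebraMap C' A')) ⧸
      Ideal.span (Set.range (delta (φ.map (Ideal.Quotient.mk (J.map (algebraMap C' A')))))))) :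
    ExactMod φ ((maximalIdeal C').map (algebraMap C' A')) := by
  have : Nontrivial (C' ⧸ J) := Ideal.Quotient.nontrivial_iff.2 hJ
  have : IsLocalRing (C' ⧸ J) := IsLocalRing.of_surjective' _ Ideal.Quotient.mk_surjective
  have := flat_quot (A' := A') J
  have h := exactMod_max (C := C' ⧸ J) _ (isNilpotent_max _) hf hi hr
  have e : (maximalIdeal (C' ⧸ J)).map (algebraMap (C' ⧸ J) (A' ⧸ J.map (algebraMap C' A'))) =
      ((maximalIdeal C').map (algebraMap C' A')).map (Ideal.Quotient.mk (J.map (algebraMap C' A'))) := by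
    rw [← IsLocalRing.map_maximalIdeal_of_surjective _ (Ideal.Quotient.mk_surjective (I := J)),
      Ideal.map_map, Ideal.map_map]
    rfl
  rw [e] at h
  refine exactMod_of_map _ Ideal.Quotient.mk_surjective ?_ φ h
  rw [Ideal.mk_ker]
  exact Ideal.map_mono (IsLocalRing.le_maximalIdeal hJ)

end Groth.Agent.DefTCodim2
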