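import Groth.Agent.McCoy.HilbertBurch

/-!
# Spreading out a resolution by maximal minors from a localization
-/

set_option linter.style.haveILetI false

open scoped Matrix

namespace Groth.Agent.DefTCodim2.Spread

universe u

variable {A : Type u} [CommRing A] (S : Submonoid A) {B : Type u} [CommRing B] [Algebra A B] [IsLocalization S B]

theorem map_delta' {t : ℕ} {C : Type u} [CommRing C] (f : A →+* C) (Ψ : Matrix (Fin (t + 1)) (Fin t) A)
    (i : Fin (t + 1)) : McCoy.delta (Ψ.map f) i = f (McCoy.delta Ψ i) := by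
  simp only [McCoy.delta, map_mul, map_pow, map_neg, map_one, RingHom.map_det, RingHom.mapMatrix_apply,
    Matrix.submatrix_map]

include S in
theorem exists_clear {n : ℕ} (v : Fin n → B) :
    ∃ m ∈ S, ∃ w : Fin n → A, ∀ i, algebraMap A B (w i) = algebraMap A B m * v i := by
  obtain ⟨b, hb⟩ := IsLocalization.exist_integer_multiples_of_finite S v
  choose w hw using hb
  exact ⟨b, b.2, w, fun i => (hw i).trans (Algebra.smul_def _ _)⟩

include B in
theorem exists_smul_eq_zero {n : ℕ} (x : Fin n → A) (hx : ∀ i, algebraMap A B (x i) = 0) :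
    ∃ m ∈ S, m • x = 0 := by
  choose m hm using fun i => (IsLocalization.map_eq_zero_iff S B (x i)).1 (hx i)
  refine ⟨∏ i, (m i : A), prod_mem fun i _ => (m i).2, funext fun i => ?_⟩
  obtain ⟨c, hc⟩ : (m i : A) ∣ ∏ j, (m j : A) := Finset.dvd_prod_of_mem _ (Finset.mem_univ i)
  simp [hc, mul_comm (m i : A) c, mul_assoc, hm i]

theorem exists_uniform {M : Type u} [AddCommGroup M] [Module A M] {N P : Submodule A M} (hN : N.FG)
    (h : ∀ x ∈ N, ∃ m ∈ S, m • x ∈ P) : ∃ m ∈ S, ∀ x ∈ N, m • x ∈ P := by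
  classical
  obtain ⟨s, rfl⟩ := hN
  choose m hmS hm using fun x : s => h x.1 (Submodule.subset_span x.2)
  refine ⟨∏ x : s, m x, prod_mem fun x _ => hmS x, fun x hx => ?_⟩
  induction hx using Submodule.span_induction with
  | mem y hy =>
    obtain ⟨c, hc⟩ : m ⟨y, hy⟩ ∣ ∏ x : s, m x := Finset.dvd_prod_of_mem _ (Finset.mem_univ _)
    rw [hc, mul_comm, mul_smul]
    exact P.smul_mem c (hm ⟨y, hy⟩)
  | zero => rw [smul_zero]; exact P.zero_mem
  | add a b _ _ ha hb => rw [smul_add]; exact P.add_mem ha hb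
  | smul a b _ hb => rw [smul_comm]; exact P.smul_mem a hb

variable {p q : ℕ} (φ : Matrix (Fin p) (Fin q) A)

include S in
theorem injective_map_of_forall (h : ∀ x, φ *ᵥ x = 0 → ∃ m ∈ S, m • x = 0) :
    Function.Injective (φ.map (algebraMap A B)).mulVecLin := by
  rw [← LinearMap.ker_eq_bot, LinearMap.ker_eq_bot']
  intro v hv
  obtain ⟨m, hm, w, hw⟩ := exists_clear S v
  have hw' : (algebraMap A B ∘ w : Fin q → B) = algebraMap A B m • v := funext hw
  have h0 : ∀ i, algebraMap A B ((φ *ᵥ w) i) = 0 := fun i => by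
    rw [RingHom.map_mulVec, hw', Matrix.mulVec_smul, show φ.map (algebraMap A B) *ᵥ v = 0 from hv, smul_zero]
    rfl
  obtain ⟨m₁, hm₁, h1⟩ := exists_smul_eq_zero (B := B) S _ h0
  obtain ⟨m₂, hm₂, h2⟩ := h (m₁ • w) (by rw [Matrix.mulVec_smul, h1])
  funext j
  have h3 := congrArg (algebraMap A B) (congrFun h2 j)
  simp only [Pi.smul_apply, smul_eq_mul, map_mul, hw, Pi.zero_apply, map_zero] at h3
  exact ((IsLocalization.map_units B (⟨m, hm⟩ : S)).mul_right_eq_zero).1
    (((IsLocalization.map_units B (⟨m₁, hm₁⟩ : S)).mul_right_eq_zero).1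
      (((IsLocalization.map_units B (⟨m₂, hm₂⟩ : S)).mul_right_eq_zero).1 h3))

variable {t : ℕ} (Ψ : Matrix (Fin (t + 1)) (Fin t) A)

include S in
theorem ker_le_range_map_of_forall
    (h : ∀ x, ∑ i, McCoy.delta Ψ i * x i = 0 → ∃ m ∈ S, m • x ∈ LinearMap.range Ψ.mulVecLin)
    (v : Fin (t + 1) → B) (hv : ∑ i, McCoy.delta (Ψ.map (algebraMap A B)) i * v i = 0) :
    v ∈ LinearMap.range (Ψ.map (algebraMap A B)).mulVecLin := by
  obtain ⟨m, hm, w, hw⟩ := exists_clear S v
  have h0 : algebraMap A B (∑ i, McCoy.delta Ψ i * w i) = 0 := by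
    have : ∀ i, algebraMap A B (McCoy.delta Ψ i * w i) =
        algebraMap A B m * (McCoy.delta (Ψ.map (algebraMap A B)) i * v i) := fun i => by
      rw [map_mul, hw, map_delta']; ring
    rw [map_sum, Finset.sum_congr rfl fun i _ => this i, ← Finset.mul_sum, hv, mul_zero]
  obtain ⟨m₁, hm₁⟩ := (IsLocalization.map_eq_zero_iff S B _).1 h0
  obtain ⟨m₂, hm₂, z, hz⟩ := h ((m₁ : A) • w) (by
    simp only [Pi.smul_apply, smul_eq_mul, mul_left_comm, ← Finset.mul_sum, hm₁])
  let c := IsUnit.unit (IsLocalization.map_units B (⟨m₂ * m₁ * m, S.mul_mem (S.mul_mem hm₂ m₁.2) hm⟩ : S))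
  refine ⟨(c⁻¹ : Bˣ).1 • (algebraMap A B ∘ z), ?_⟩
  rw [map_smul, Matrix.mulVecLin_apply]
  funext i
  have hc' : (c : B) = algebraMap A B (m₂ * m₁ * m) := rfl
  have e : algebraMap A B ((Ψ *ᵥ z) i) = (c : B) * v i := by
    rw [show Ψ *ᵥ z = m₂ • (m₁ : A) • w from hz, Pi.smul_apply, Pi.smul_apply, smul_eq_mul, smul_eq_mul, map_mul,
      map_mul, hw, hc', map_mul, map_mul]
    ring
  rw [Pi.smul_apply, smul_eq_mul, ← RingHom.map_mulVec, e, ← mul_assoc, Units.inv_mul, one_mul]

include S in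
theorem exists_smul_mem_range (h : LinearMap.ker (Fintype.linearCombination B (McCoy.delta (Ψ.map (algebraMap A B)))) ≤
    LinearMap.range (Ψ.map (algebraMap A B)).mulVecLin) (x : Fin (t + 1) → A)
    (hx : ∑ i, McCoy.delta Ψ i * x i = 0) : ∃ m ∈ S, m • x ∈ LinearMap.range Ψ.mulVecLin := by
  obtain ⟨y, hy⟩ := h (x := algebraMap A B ∘ x) (by
    rw [LinearMap.mem_ker, Fintype.linearCombination_apply, ← map_zero (algebraMap A B), ← hx, map_sum]
    refine Finset.sum_congr rfl fun i _ => ?_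
    rw [smul_eq_mul, map_mul, map_delta', Function.comp_apply, mul_comm])
  obtain ⟨m, hm, w, hw⟩ := exists_clear S y
  have h0 : ∀ i, algebraMap A B ((Ψ *ᵥ w - m • x) i) = 0 := fun i => by
    have hw' : (algebraMap A B ∘ w : Fin t → B) = algebraMap A B m • y := funext hw
    rw [Pi.sub_apply, map_sub, RingHom.map_mulVec, hw', Matrix.mulVec_smul,
      show Ψ.map (algebraMap A B) *ᵥ y = algebraMap A B ∘ x from hy]
    simp
  obtain ⟨m₁, hm₁, h1⟩ := exists_smul_eq_zero (B := B) S _ h0
  refine ⟨m₁ * m, S.mul_mem hm₁ hm, m₁ • w, ?_⟩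
  rw [map_smul, Matrix.mulVecLin_apply, mul_smul]
  rwa [smul_sub, sub_eq_zero] at h1

/-- Spreading out from a local ring to a principal localization. -/
theorem exists_spread [IsNoetherianRing A] (P : Ideal A) [P.IsPrime] (B : Type u) [CommRing B] [Algebra A B]
    [IsLocalization.AtPrime B P] (I : Ideal A) {r : ℕ} (φ : Matrix (Fin (r + 1)) (Fin r) B)
    (h₁ : Ideal.span (Set.range (McCoy.delta φ)) = I.map (algebraMap A B))
    (h₂ : Function.Injective φ.mulVecLin)
    (h₃ : LinearMap.range φ.mulVecLin = LinearMap.ker (Fintype.linearCombination B (McCoy.delta φ))) :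
    ∃ g ∉ P, ∃ Ψ : Matrix (Fin (r + 1)) (Fin r) A, ∀ (C : Type u) [CommRing C] [Algebra A C]
      [IsLocalization.Away g C],
      Ideal.span (Set.range (McCoy.delta (Ψ.map (algebraMap A C)))) = I.map (algebraMap A C) ∧
      Function.Injective (Ψ.map (algebraMap A C)).mulVecLin ∧
      LinearMap.range (Ψ.map (algebraMap A C)).mulVecLin =
        LinearMap.ker (Fintype.linearCombination C (McCoy.delta (Ψ.map (algebraMap A C)))) := by
  obtain ⟨b, hb⟩ := IsLocalization.exist_integer_multiples_of_finite P.primeCompl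
    (fun ij : Fin (r + 1) × Fin r => φ ij.1 ij.2)
  choose a ha using hb
  let Ψ : Matrix (Fin (r + 1)) (Fin r) A := fun i j => a (i, j)
  let c := algebraMap A B b
  have hc : IsUnit c := IsLocalization.map_units B b
  have hΨ : Ψ.map (algebraMap A B) = c • φ := by
    ext i j
    exact (ha (i, j)).trans (Algebra.smul_def _ _)
  have hδ : ∀ i, McCoy.delta (c • φ) i = c ^ r * McCoy.delta φ i := fun i => by
    rw [McCoy.delta, show (c • φ).submatrix i.succAbove id = c • φ.submatrix i.succAbove id from rfl,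
      Matrix.det_smul, McCoy.delta, Fintype.card_fin]
    ring
  have hspan : (Ideal.span (Set.range (McCoy.delta Ψ))).map (algebraMap A B) = I.map (algebraMap A B) := by
    rw [← h₁, Ideal.map_span, ← Set.range_comp]
    refine le_antisymm (Ideal.span_le.2 ?_) (Ideal.span_le.2 ?_)
    · rintro _ ⟨i, rfl⟩
      rw [Function.comp_apply, ← map_delta', hΨ, hδ]
      exact Ideal.mul_mem_left _ _ (Ideal.subset_span ⟨i, rfl⟩)
    · rintro _ ⟨i, rfl⟩
      rw [← (hc.pow r).unit.inv_mul_cancel_left (McCoy.delta φ i), IsUnit.unit_spec, ← hδ, ← hΨ, map_delta']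
      exact Ideal.mul_mem_left _ _ (Ideal.subset_span ⟨i, rfl⟩)
  obtain ⟨u₁, hu₁, h1a⟩ := exists_uniform P.primeCompl (N := I) (P := Ideal.span (Set.range (McCoy.delta Ψ)))
    (IsNoetherian.noetherian _) fun x hx =>
    (IsLocalization.algebraMap_mem_map_algebraMap_iff P.primeCompl B _ x).1 (hspan ▸ Ideal.mem_map_of_mem _ hx)
  obtain ⟨u₂, hu₂, h1b⟩ := exists_uniform P.primeCompl (N := Ideal.span (Set.range (McCoy.delta Ψ))) (P := I)
    (IsNoetherian.noetherian _) fun x hx =>
    (IsLocalization.algebraMap_mem_map_algebraMap_iff P.primeCompl B _ x).1 (hspan ▸ Ideal.mem_map_of_mem _ hx)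
  obtain ⟨u₃, hu₃, h2'⟩ := exists_uniform P.primeCompl (N := LinearMap.ker Ψ.mulVecLin) (P := ⊥)
    (IsNoetherian.noetherian _) fun x hx => by
      have : (c • φ).mulVecLin (algebraMap A B ∘ x) = 0 := by
        rw [← hΨ, Matrix.mulVecLin_apply]
        funext i
        rw [← RingHom.map_mulVec, show Ψ *ᵥ x = 0 from hx]
        exact map_zero _
      rw [Matrix.mulVecLin_apply, Matrix.smul_mulVec] at this
      obtain ⟨m, hm, hmx⟩ := exists_smul_eq_zero (B := B) P.primeCompl x
        fun i => congrFun (h₂ (by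
          rw [map_zero]
          exact hc.smul_eq_zero.1 this) : algebraMap A B ∘ x = 0) i
      exact ⟨m, hm, (Submodule.mem_bot A).2 hmx⟩
  obtain ⟨u₄, hu₄, h3'⟩ := exists_uniform P.primeCompl
    (N := LinearMap.ker (Fintype.linearCombination A (McCoy.delta Ψ))) (P := LinearMap.range Ψ.mulVecLin)
    (IsNoetherian.noetherian _) fun x hx => by
      refine exists_smul_mem_range (B := B) P.primeCompl Ψ (fun v hv => ?_) x ?_
      · rw [LinearMap.mem_ker, Fintype.linearCombination_apply] at hv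
        have hv' : v ∈ LinearMap.ker (Fintype.linearCombination B (McCoy.delta φ)) := by
          rw [LinearMap.mem_ker, Fintype.linearCombination_apply]
          refine ((hc.pow r).mul_right_eq_zero).1 ?_
          rw [Finset.mul_sum, ← hv]
          refine Finset.sum_congr rfl fun i _ => ?_
          rw [hΨ, hδ, smul_eq_mul, smul_eq_mul]
          ring
        rw [← h₃] at hv'
        obtain ⟨z, hz⟩ := hv'
        refine ⟨(hc.unit⁻¹ : Bˣ).1 • z, ?_⟩
        rw [hΨ, map_smul, Matrix.mulVecLin_apply, Matrix.smul_mulVec, smul_smul, hc.val_inv_mul, one_smul]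
        exact hz
      · rw [LinearMap.mem_ker, Fintype.linearCombination_apply] at hx
        exact (Finset.sum_congr rfl fun i _ => mul_comm _ _).trans hx
  refine ⟨u₁ * u₂ * u₃ * u₄, fun h => ?_, Ψ, fun C _ _ _ => ?_⟩
  · exact P.primeCompl.mul_mem (P.primeCompl.mul_mem (P.primeCompl.mul_mem hu₁ hu₂) hu₃) hu₄ h
  have hg : IsUnit (algebraMap A C (u₁ * u₂ * u₃ * u₄)) := IsLocalization.Away.algebraMap_isUnit _
  simp only [map_mul, IsUnit.mul_iff] at hg
  let G := Submonoid.powers (u₁ * u₂ * u₃ * u₄)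
  refine ⟨?_, ?_, le_antisymm ?_ ?_⟩
  · rw [show Set.range (McCoy.delta (Ψ.map (algebraMap A C))) = algebraMap A C '' Set.range (McCoy.delta Ψ) by
      rw [← Set.range_comp]; exact congrArg Set.range (funext (map_delta' _ _)), ← Ideal.map_span]
    refine le_antisymm (Ideal.map_le_iff_le_comap.2 fun x hx => ?_) (Ideal.map_le_iff_le_comap.2 fun x hx => ?_)
    · exact (Ideal.unit_mul_mem_iff_mem _ hg.1.1.2).1 (by
        rw [← map_mul]; exact Ideal.mem_map_of_mem _ (h1b x hx))
    · exact (Ideal.unit_mul_mem_iff_mem _ hg.1.1.1).1 (by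
        rw [← map_mul]; exact Ideal.mem_map_of_mem _ (h1a x hx))
  · refine injective_map_of_forall G Ψ fun x hx => ⟨_, Submonoid.mem_powers _, ?_⟩
    rw [show u₁ * u₂ * u₃ * u₄ = (u₁ * u₂ * u₄) * u₃ by ring, mul_smul, (Submodule.mem_bot A).1 (h2' x hx),
      smul_zero]
  · rintro v ⟨w, rfl⟩
    rw [LinearMap.mem_ker, Fintype.linearCombination_apply, Matrix.mulVecLin_apply]
    exact (Finset.sum_congr rfl fun i _ => mul_comm _ _).trans (McCoy.sum_delta_mulVec _ w)
  · intro v hv
    rw [LinearMap.mem_ker, Fintype.linearCombination_apply] at hv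
    refine ker_le_range_map_of_forall G Ψ (fun x hx => ⟨_, Submonoid.mem_powers _, ?_⟩) v
      ((Finset.sum_congr rfl fun i _ => mul_comm _ _).trans hv)
    rw [mul_smul]
    refine Submodule.smul_mem _ _ (h3' x ?_)
    rw [LinearMap.mem_ker, Fintype.linearCombination_apply]
    exact (Finset.sum_congr rfl fun i _ => mul_comm _ _).trans hx

end Groth.Agent.DefTCodim2.Spread
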