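import Groth.Agent.DefTCodim2.Split
import Groth.Agent.Synt29.ArtinLift
import Groth.Agent.McCoy.HilbertBurch
import Groth.Agent.S11450
import Groth.Agent.S12907
import Groth.Agent.ArtFlat.Regular

/-! Signed maximal minors of a matrix over a flat algebra over an Artinian local ring: exactness lifts
from the closed fibre, and flat lifts of the ideal come from lifts of the matrix. -/

universe u

open IsLocalRing
open scoped Matrix

namespace Groth.Agent.DefTCodim2

open Groth.Agent.McCoy

variable {A : Type u} [CommRing A] {r : ℕ} (φ : Matrix (Fin (r + 1)) (Fin r) A)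

/-- The row of signed maximal minors as a map. -/
noncomputable def dmap : (Fin (r + 1) → A) →ₗ[A] A := Fintype.linearCombination A (delta φ)

theorem dmap_apply (v : Fin (r + 1) → A) : dmap φ v = ∑ i, delta φ i * v i := by
  simp [dmap, Fintype.linearCombination_apply, mul_comm]

theorem range_dmap : LinearMap.range (dmap φ) = Ideal.span (Set.range (delta φ)) :=
  Fintype.range_linearCombination _ _

theorem dmap_mulVec (w : Fin r → A) : dmap φ (φ *ᵥ w) = 0 := by
  rw [dmap_apply, sum_delta_mulVec]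

theorem map_delta {B : Type u} [CommRing B] (f : A →+* B) (i : Fin (r + 1)) :
    delta (φ.map f) i = f (delta φ i) := by
  simp [delta, Matrix.submatrix_map, RingHom.map_det, RingHom.mapMatrix_apply]

/-- `0 → A^r → A^{r+1} → A` is exact modulo an ideal. -/
structure ExactMod (N : Ideal A) : Prop where
  middle : ∀ v : Fin (r + 1) → A, dmap φ v ∈ N → ∃ w : Fin r → A, ∀ i, v i - (φ *ᵥ w) i ∈ N
  inj : ∀ w : Fin r → A, (∀ i, (φ *ᵥ w) i ∈ N) → ∀ j, w j ∈ N

theorem exactMod_iff (N : Ideal A) :
    ExactMod φ N ↔ Function.Injective (φ.map (Ideal.Quotient.mk N)).mulVecLin ∧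
      LinearMap.range (φ.map (Ideal.Quotient.mk N)).mulVecLin =
        LinearMap.ker (dmap (φ.map (Ideal.Quotient.mk N))) := by
  have hd : ∀ v : Fin (r + 1) → A, dmap (φ.map (Ideal.Quotient.mk N)) (fun i => Ideal.Quotient.mk N (v i)) =
      Ideal.Quotient.mk N (dmap φ v) := fun v => by
    simp [dmap_apply, map_delta, map_sum]
  have hm : ∀ (w : Fin r → A), (φ.map (Ideal.Quotient.mk N)) *ᵥ (fun j => Ideal.Quotient.mk N (w j)) =
      fun i => Ideal.Quotient.mk N ((φ *ᵥ w) i) := fun w => by
    funext i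
    exact (RingHom.map_mulVec (Ideal.Quotient.mk N) φ w i).symm
  constructor
  · intro h
    constructor
    · rw [← LinearMap.ker_eq_bot, eq_bot_iff]
      intro w hw
      choose w' hw' using fun j => Ideal.Quotient.mk_surjective (w j)
      obtain rfl : (fun j => Ideal.Quotient.mk N (w' j)) = w := funext hw'
      rw [LinearMap.mem_ker, Matrix.mulVecLin_apply, hm] at hw
      exact funext fun j => Ideal.Quotient.eq_zero_iff_mem.2
        (h.inj w' (fun i => Ideal.Quotient.eq_zero_iff_mem.1 (congrFun hw i)) j)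
    · refine le_antisymm ?_ fun v hv => ?_
      · rintro _ ⟨w, rfl⟩
        exact dmap_mulVec _ w
      · choose v' hv' using fun j => Ideal.Quotient.mk_surjective (v j)
        obtain rfl : (fun j => Ideal.Quotient.mk N (v' j)) = v := funext hv'
        rw [LinearMap.mem_ker, hd, Ideal.Quotient.eq_zero_iff_mem] at hv
        obtain ⟨w, hw⟩ := h.middle v' hv
        refine ⟨fun j => Ideal.Quotient.mk N (w j), ?_⟩
        rw [Matrix.mulVecLin_apply, hm]
        exact funext fun i => (Ideal.Quotient.eq.2 (hw i)).symm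
  · rintro ⟨hi, hr⟩
    refine ⟨fun v hv => ?_, fun w hw j => ?_⟩
    · have : (fun i => Ideal.Quotient.mk N (v i)) ∈ LinearMap.ker (dmap (φ.map (Ideal.Quotient.mk N))) := by
        rw [LinearMap.mem_ker, hd, Ideal.Quotient.eq_zero_iff_mem]; exact hv
      rw [← hr] at this
      obtain ⟨w, hw⟩ := this
      choose w' hw' using fun j => Ideal.Quotient.mk_surjective (w j)
      obtain rfl : (fun j => Ideal.Quotient.mk N (w' j)) = w := funext hw'
      rw [Matrix.mulVecLin_apply, hm] at hw
      exact ⟨w', fun i => Ideal.Quotient.eq.1 (congrFun hw i).symm⟩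
    · have : (fun j => Ideal.Quotient.mk N (w j)) = 0 := hi (by
        rw [map_zero, Matrix.mulVecLin_apply, hm]
        exact funext fun i => Ideal.Quotient.eq_zero_iff_mem.2 (hw i))
      exact Ideal.Quotient.eq_zero_iff_mem.1 (congrFun this j)

theorem ExactMod.congr {φ' : Matrix (Fin (r + 1)) (Fin r) A} {N : Ideal A} (h : ExactMod φ N)
    (e : φ'.map (Ideal.Quotient.mk N) = φ.map (Ideal.Quotient.mk N)) : ExactMod φ' N := by
  rw [exactMod_iff, e, ← exactMod_iff]; exact h

theorem exists_of_mem_mul {n : ℕ} (N : Ideal A) (g : Fin n → A) {y : A}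
    (hy : y ∈ N * Ideal.span (Set.range g)) : ∃ u : Fin n → A, (∀ i, u i ∈ N) ∧ ∑ i, u i * g i = y := by
  refine Submodule.mul_induction_on hy (fun a ha b hb => ?_) ?_
  · obtain ⟨c, rfl⟩ := Ideal.mem_span_range_iff_exists_fun.1 hb
    exact ⟨fun i => a * c i, fun i => Ideal.mul_mem_right _ _ ha, by
      rw [Finset.mul_sum]; exact Finset.sum_congr rfl fun i _ => by ring⟩
  · rintro x y ⟨u, hu, rfl⟩ ⟨v, hv, rfl⟩
    exact ⟨u + v, fun i => add_mem (hu i) (hv i), by simp [add_mul, Finset.sum_add_distrib]⟩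

variable {C : Type u} [CommRing C] [Algebra C A]

theorem mem_smul_top_iff (I : Ideal C) (x : A) :
    x ∈ I • (⊤ : Submodule C A) ↔ x ∈ I.map (algebraMap C A) := by
  rw [Ideal.smul_top_eq_map]; rfl

theorem mem_smul_pi_iff (I : Ideal C) {ι : Type} [Fintype ι] (v : ι → A) :
    v ∈ I • (⊤ : Submodule C (ι → A)) ↔ ∀ i, v i ∈ I.map (algebraMap C A) := by
  classical
  rw [mem_smul_pi]
  exact forall_congr' fun i => mem_smul_top_iff I _

variable [IsLocalRing C]

theorem isNilpotent_max (C : Type u) [CommRing C] [IsLocalRing C] [IsArtinianRing C] :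
    IsNilpotent (maximalIdeal C) :=
  (isArtinianRing_iff_isNilpotent_maximalIdeal C).1 inferInstance

theorem flat_range_of_flat_quotient (hC : IsNilpotent (maximalIdeal C)) [Module.Flat C A]
    (h : Module.Flat C (A ⧸ Ideal.span (Set.range (delta φ)))) :
    Module.Flat C (LinearMap.range ((dmap φ).restrictScalars C)) ∧
      Module.Flat C ((Fin (r + 1) → A) ⧸ LinearMap.ker ((dmap φ).restrictScalars C)) := by
  have e : LinearMap.range ((dmap φ).restrictScalars C) = (Ideal.span (Set.range (delta φ))).restrictScalars C := by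
    rw [LinearMap.range_restrictScalars, range_dmap]
  have h1 : Module.Flat C (A ⧸ LinearMap.range ((dmap φ).restrictScalars C)) := by
    rw [e]
    exact Module.Flat.of_linearEquiv
      (Submodule.Quotient.restrictScalarsEquiv C (Ideal.span (Set.range (delta φ))) :
        (A ⧸ (Ideal.span (Set.range (delta φ))).restrictScalars C) ≃ₗ[C] _)
  have h2 := flat_of_flat_quotient hC (LinearMap.range ((dmap φ).restrictScalars C))
  exact ⟨h2, Module.Flat.of_linearEquiv ((dmap φ).restrictScalars C).quotKerEquivRange⟩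

theorem exactMod_max (hC : IsNilpotent (maximalIdeal C)) [Module.Flat C A]
    (hflat : Module.Flat C (A ⧸ Ideal.span (Set.range (delta φ))))
    (hi : Function.Injective φ.mulVecLin) (hr : LinearMap.range φ.mulVecLin = LinearMap.ker (dmap φ)) :
    ExactMod φ ((maximalIdeal C).map (algebraMap C A)) := by
  obtain ⟨-, hq⟩ := flat_range_of_flat_quotient φ hC hflat
  refine ⟨fun v hv => ?_, fun w hw j => ?_⟩
  · have h1 := Groth.Agent.Synt29.ArtinLift.inf_le_mul (maximalIdeal C) (Ideal.span (Set.range (delta φ)))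
      ⟨hv, by rw [← range_dmap]; exact ⟨v, rfl⟩⟩
    have h2 : ∀ y ∈ (maximalIdeal C).map (algebraMap C A) * Ideal.span (Set.range (delta φ)),
        ∃ u : Fin (r + 1) → A, (∀ i, u i ∈ (maximalIdeal C).map (algebraMap C A)) ∧ dmap φ u = y := by
      intro y hy
      obtain ⟨u, hu, rfl⟩ := exists_of_mem_mul _ _ hy
      exact ⟨u, hu, by simp [dmap_apply, mul_comm]⟩
    obtain ⟨u, hu, hue⟩ := h2 _ h1
    have : v - u ∈ LinearMap.ker (dmap φ) := by rw [LinearMap.mem_ker, map_sub, hue, sub_self]
    rw [← hr] at this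
    obtain ⟨w, hw⟩ := this
    refine ⟨w, fun i => ?_⟩
    rw [← Matrix.mulVecLin_apply, hw]
    simpa using hu i
  · have hmem : φ *ᵥ w ∈ LinearMap.ker ((dmap φ).restrictScalars C) := dmap_mulVec φ w
    have h1 := mem_smul_of_flat hC _ (maximalIdeal C) hmem ((mem_smul_pi_iff _ _).2 hw)
    have hker : LinearMap.ker ((dmap φ).restrictScalars C) =
        LinearMap.range (φ.mulVecLin.restrictScalars C) := by
      rw [LinearMap.range_restrictScalars, hr]; rfl
    rw [hker, LinearMap.range_eq_map, ← Submodule.map_smul''] at h1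
    obtain ⟨w', hw', he⟩ := h1
    obtain rfl : w' = w := hi he
    exact (mem_smul_pi_iff _ _).1 hw' j

/-- Exactness modulo the maximal ideal gives exactness and flatness. -/
theorem exact_and_flat [IsArtinianRing C] [Module.Flat C A]
    (h : ExactMod φ ((maximalIdeal C).map (algebraMap C A))) :
    Function.Injective φ.mulVecLin ∧ LinearMap.range φ.mulVecLin = LinearMap.ker (dmap φ) ∧
      Module.Flat C (A ⧸ Ideal.span (Set.range (delta φ))) := by
  have hC := isNilpotent_max C
  set I := Ideal.span (Set.range (delta φ)) with hI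
  have key : ∀ x ∈ I, x ∈ (maximalIdeal C).map (algebraMap C A) →
      x ∈ (maximalIdeal C • I.restrictScalars C : Submodule C A) := by
    intro x hx hxm
    replace hx : x ∈ LinearMap.range (dmap φ) := by rw [range_dmap]; exact hx
    obtain ⟨v, rfl⟩ := hx
    obtain ⟨w, hw⟩ := h.middle v hxm
    have h1 : v - φ *ᵥ w ∈ maximalIdeal C • (⊤ : Submodule C (Fin (r + 1) → A)) :=
      (mem_smul_pi_iff _ _).2 hw
    have h2 := Submodule.mem_map_of_mem (f := (dmap φ).restrictScalars C) h1
    rw [Submodule.map_smul''] at h2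
    have h3 : ((dmap φ).restrictScalars C) (v - φ *ᵥ w) = dmap φ v := by
      show dmap φ (v - φ *ᵥ w) = _
      rw [map_sub, dmap_mulVec, sub_zero]
    rw [h3] at h2
    refine Submodule.smul_mono le_rfl ?_ h2
    rintro _ ⟨y, -, rfl⟩
    show dmap φ y ∈ I
    rw [hI, ← range_dmap]
    exact ⟨y, rfl⟩
  have hflat : Module.Flat C (A ⧸ I) := by
    refine (Groth.Agent.S11450.result C (A ⧸ I)).2 fun p hp => ?_
    have hpm : p = maximalIdeal C := IsLocalRing.eq_maximalIdeal
      ((IsArtinianRing.isPrime_iff_isMaximal p).1 hp)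
    subst hpm
    let q : A →ₗ[C] A ⧸ I := (Submodule.mkQ I).restrictScalars C
    rw [Groth.Agent.TorBridge.isZero_tor_one_iff (C ⧸ maximalIdeal C) (A ⧸ I) q (Submodule.mkQ_surjective I),
      injective_iff_map_eq_zero]
    intro t ht
    obtain ⟨⟨z, hz⟩, rfl⟩ := Groth.Agent.ArtFlat.exists_tmul_one (maximalIdeal C) t
    rw [LinearMap.rTensor_tmul, Groth.Agent.ArtFlat.tmul_one_eq_zero_iff, mem_smul_top_iff] at ht
    rw [Groth.Agent.ArtFlat.tmul_one_eq_zero_iff]
    have hzI : z ∈ I := (Submodule.Quotient.mk_eq_zero I).1 hz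
    have h1 := key z hzI ht
    have hker : LinearMap.ker q = I.restrictScalars C :=
      Submodule.ext fun y => Submodule.Quotient.mk_eq_zero I
    rw [← hker] at h1
    have h2 : maximalIdeal C • LinearMap.ker q =
        (maximalIdeal C • (⊤ : Submodule C (LinearMap.ker q))).map (LinearMap.ker q).subtype := by
      rw [Submodule.map_smul'', Submodule.map_subtype_top]
    rw [h2] at h1
    obtain ⟨⟨z', hz'⟩, hzz, e⟩ := h1
    obtain rfl : z' = z := e
    exact hzz
  obtain ⟨-, hq⟩ := flat_range_of_flat_quotient φ hC hflat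
  have hpiflat : ∀ n : ℕ, Module.Flat C (Fin n → A) := fun n =>
    Module.Flat.of_linearEquiv (DirectSum.linearEquivFunOnFintype C (Fin n) (fun _ => A)).symm
  set K := LinearMap.ker ((dmap φ).restrictScalars C)
  set P := LinearMap.range (φ.mulVecLin.restrictScalars C)
  have hKP : K ≤ P := by
    refine le_of_le_sup_smul hC fun v hv => ?_
    obtain ⟨w, hw⟩ := h.middle v (by rw [show dmap φ v = 0 from hv]; exact zero_mem _)
    have hwK : φ *ᵥ w ∈ K := dmap_mulVec φ w
    have := mem_smul_of_flat hC K (maximalIdeal C) (sub_mem hv hwK) ((mem_smul_pi_iff _ _).2 hw)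
    rw [← add_sub_cancel (φ *ᵥ w) v]
    exact Submodule.add_mem_sup ⟨w, rfl⟩ this
  have hPK : P = K := le_antisymm (by rintro _ ⟨w, rfl⟩; exact dmap_mulVec φ w) hKP
  have hPfl : Module.Flat C P := by
    rw [hPK]; exact flat_of_flat_quotient hC K
  have hq2 : Module.Flat C ((Fin r → A) ⧸ LinearMap.ker (φ.mulVecLin.restrictScalars C)) :=
    Module.Flat.of_linearEquiv (φ.mulVecLin.restrictScalars C).quotKerEquivRange
  have hinj : LinearMap.ker (φ.mulVecLin.restrictScalars C) = ⊥ := by
    refine le_bot_iff.1 (le_of_le_sup_smul hC fun w hw => ?_)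
    rw [bot_sup_eq]
    refine mem_smul_of_flat hC _ (maximalIdeal C) hw ((mem_smul_pi_iff _ _).2 (h.inj w fun i => ?_))
    rw [← Matrix.mulVecLin_apply, show φ.mulVecLin w = 0 from hw]
    exact zero_mem _
  refine ⟨fun _ _ e => LinearMap.ker_eq_bot.1 hinj e, ?_, hflat⟩
  refine le_antisymm ?_ fun v hv => ?_
  · rintro _ ⟨w, rfl⟩; exact dmap_mulVec φ w
  · exact hKP (show v ∈ K from hv)

/-- The minors have a regular pair. -/
theorem hasRegularPair [IsNoetherianRing A] (hi : Function.Injective φ.mulVecLin)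
    (hr : LinearMap.range φ.mulVecLin = LinearMap.ker (dmap φ)) :
    HasRegularPair (Ideal.span (Set.range (delta φ))) := by
  cases subsingleton_or_nontrivial A with
  | inl hs => exact Or.inl (Subsingleton.elim _ _)
  | inr hn =>
    have hne : LinearMap.range (dmap φ) ≠ ⊥ := fun e => by
      rw [LinearMap.range_eq_bot] at e
      rw [e, LinearMap.ker_zero, LinearMap.range_eq_top] at hr
      have := (LinearEquiv.ofBijective φ.mulVecLin ⟨hi, hr⟩).finrank_eq
      simp at this
    have h := (Groth.Agent.S12907.result r (r + 1) φ (dmap φ) (LinearMap.ker_eq_bot.2 hi) hr.symm hne).2.2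
    have := hasRegularPair_of_idealDepth h
    rwa [minorIdeal_eq_span_delta] at this

/-- A row killed by the matrix is a multiple of the row of minors. -/
theorem exists_eq_mul [IsNoetherianRing A] (hi : Function.Injective φ.mulVecLin)
    (hr : LinearMap.range φ.mulVecLin = LinearMap.ker (dmap φ))
    (h : (Fin (r + 1) → A) →ₗ[A] A) (hh : ∀ w, h (φ *ᵥ w) = 0) :
    ∃ c : A, ∀ v, h v = c * dmap φ v := by
  have hsym : ∀ a v, dmap φ a * h v = dmap φ v * h a := fun a v => by
    have hk : dmap φ a • v - dmap φ v • a ∈ LinearMap.ker (dmap φ) := by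
      rw [LinearMap.mem_ker, map_sub, map_smul, map_smul, smul_eq_mul, smul_eq_mul]; ring
    rw [← hr] at hk
    obtain ⟨w, hw⟩ := hk
    have := hh w
    rw [← Matrix.mulVecLin_apply, hw, map_sub, map_smul, map_smul, smul_eq_mul, smul_eq_mul, sub_eq_zero] at this
    exact this
  rcases hasRegularPair φ hi hr with ht | ⟨x, hx, y, hy, hxr, hxy⟩
  · have h1 : (1 : A) ∈ LinearMap.range (dmap φ) := by rw [range_dmap, ht]; trivial
    obtain ⟨a, ha⟩ := h1
    exact ⟨h a, fun v => by have := hsym a v; rw [ha, one_mul] at this; rw [this, mul_comm]⟩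
  · rw [← range_dmap] at hx hy
    obtain ⟨a, rfl⟩ := hx
    obtain ⟨b, rfl⟩ := hy
    obtain ⟨c, hc⟩ := hxy (h a) ⟨h b, by rw [hsym a b]⟩
    refine ⟨c, fun v => ?_⟩
    have := hsym a v
    rw [hc] at this
    refine (mul_cancel_left_mem_nonZeroDivisors hxr).1 ?_
    linear_combination this

/-- A flat lift of the ideal of minors comes from a lift of the matrix. -/
theorem exists_lift [IsArtinianRing C] [Module.Flat C A] [IsNoetherianRing A] (J : Ideal C) (hJ : J ≠ ⊤)
    (hex : ExactMod φ ((maximalIdeal C).map (algebraMap C A)))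
    (I : Ideal A) [Module.Flat C (A ⧸ I)]
    (hI : I.map (Ideal.Quotient.mk (J.map (algebraMap C A))) =
      (Ideal.span (Set.range (delta φ))).map (Ideal.Quotient.mk (J.map (algebraMap C A)))) :
    ∃ φ' : Matrix (Fin (r + 1)) (Fin r) A,
      φ'.map (Ideal.Quotient.mk (J.map (algebraMap C A))) = φ.map (Ideal.Quotient.mk (J.map (algebraMap C A))) ∧
      Ideal.span (Set.range (delta φ')) = I ∧ Function.Injective φ'.mulVecLin ∧
      LinearMap.range φ'.mulVecLin = LinearMap.ker (dmap φ') := by
  set JA := J.map (algebraMap C A) with hJA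
  have hJm : JA ≤ (maximalIdeal C).map (algebraMap C A) := Ideal.map_mono (IsLocalRing.le_maximalIdeal hJ)
  have hJn : IsNilpotent J := by
    obtain ⟨n, hn⟩ := isNilpotent_max C
    exact ⟨n, le_bot_iff.1 ((Ideal.pow_right_mono (IsLocalRing.le_maximalIdeal hJ) n).trans hn.le)⟩
  have hg : ∀ i, ∃ g ∈ I, Ideal.Quotient.mk JA g = Ideal.Quotient.mk JA (delta φ i) := fun i =>
    (Ideal.mem_map_iff_of_surjective _ Ideal.Quotient.mk_surjective).1
      (hI ▸ Ideal.mem_map_of_mem _ (Ideal.subset_span ⟨i, rfl⟩))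
  choose g hgI hge using hg
  have hgspan : Ideal.span (Set.range g) = I := by
    refine Groth.Agent.Synt29.ArtinLift.eq_of_map_eq J hJn I _
      (Ideal.span_le.2 (by rintro _ ⟨i, rfl⟩; exact hgI i)) ?_
    rw [hI, Ideal.map_span, Ideal.map_span, ← Set.range_comp, ← Set.range_comp]
    exact le_of_eq (congrArg (fun f => Ideal.span (Set.range f)) (funext fun i => (hge i).symm))
  let G := Fintype.linearCombination A g
  have hG : ∀ v, G v = ∑ i, v i * g i := fun v => by simp [G, Fintype.linearCombination_apply]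
  have hGd : ∀ v, G v - dmap φ v ∈ JA := fun v => by
    rw [hG, dmap_apply, ← Finset.sum_sub_distrib]
    refine Ideal.sum_mem _ fun i _ => ?_
    rw [mul_comm (delta φ i), ← mul_sub]
    exact Ideal.mul_mem_left _ _ (Ideal.Quotient.eq.1 (hge i))
  have hu : ∀ j, ∃ u : Fin (r + 1) → A, (∀ i, u i ∈ JA) ∧ G u = G (fun i => φ i j) := fun j => by
    have h0 : dmap φ (fun i => φ i j) = 0 := by
      have e : (fun i => φ i j) = φ *ᵥ Pi.single j 1 := by
        funext i; simp
      rw [e, dmap_mulVec]
    have h1 : G (fun i => φ i j) ∈ JA ⊓ I := by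
      refine ⟨by simpa [h0] using hGd (fun i => φ i j), ?_⟩
      rw [← hgspan, hG]
      exact Ideal.sum_mem _ fun i _ => Ideal.mul_mem_left _ _ (Ideal.subset_span ⟨i, rfl⟩)
    have h2 := Groth.Agent.Synt29.ArtinLift.inf_le_mul J I h1
    rw [← hgspan] at h2
    obtain ⟨u, hu, hue⟩ := exists_of_mem_mul _ _ h2
    exact ⟨u, hu, by rw [hG u]; exact hue⟩
  choose u hu hue using hu
  let φ' : Matrix (Fin (r + 1)) (Fin r) A := Matrix.of fun i j => φ i j - u j i
  have hmap : φ'.map (Ideal.Quotient.mk JA) = φ.map (Ideal.Quotient.mk JA) := by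
    ext i j
    simp [φ', Ideal.Quotient.eq_zero_iff_mem.2 (hu j i)]
  have hkill : ∀ w, G (φ' *ᵥ w) = 0 := by
    intro w
    have e : φ' *ᵥ w = ∑ j, w j • ((fun i => φ i j) - u j) := by
      funext i
      simp [φ', Matrix.mulVec, dotProduct, Finset.sum_apply, mul_comm]
    rw [e, map_sum]
    refine Finset.sum_eq_zero fun j _ => ?_
    rw [map_smul, map_sub, hue, sub_self, smul_zero]
  have hex' : ExactMod φ' ((maximalIdeal C).map (algebraMap C A)) := by
    refine hex.congr φ ?_
    ext i j
    exact Ideal.Quotient.eq.2 (by simpa [φ'] using hJm (hu j i))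
  obtain ⟨hi, hr, -⟩ := exact_and_flat φ' hex'
  obtain ⟨c, hc⟩ := exists_eq_mul φ' hi hr G hkill
  have hgc : ∀ i, g i = c * delta φ' i := fun i => by
    classical
    have := hc (Pi.single i 1)
    simpa [hG, dmap_apply, Pi.single_apply] using this
  refine ⟨φ', hmap, ?_, hi, hr⟩
  have hle : I ≤ Ideal.span (Set.range (delta φ')) := by
    rw [← hgspan, Ideal.span_le]
    rintro _ ⟨i, rfl⟩
    rw [hgc i]; exact Ideal.mul_mem_left _ _ (Ideal.subset_span ⟨i, rfl⟩)
  have hfl : Module.Flat C (A ⧸ Ideal.span (Set.range (delta φ'))) := (exact_and_flat φ' hex').2.2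
  refine (Groth.Agent.Synt29.ArtinLift.eq_of_map_eq J hJn _ I hle ?_).symm
  rw [hI, Ideal.map_span, Ideal.map_span, ← Set.range_comp, ← Set.range_comp]
  refine le_of_eq (congrArg (fun f => Ideal.span (Set.range f)) (funext fun i => ?_))
  show Ideal.Quotient.mk JA (delta φ' i) = Ideal.Quotient.mk JA (delta φ i)
  rw [← map_delta, ← map_delta, hmap]

end Groth.Agent.DefTCodim2
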