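import Groth.Agent.ArtFlat.Basic
import Mathlib

/-! Flat quotients over a local ring with nilpotent maximal ideal split. -/

universe u v

open IsLocalRing

namespace Groth.Agent.DefTCodim2

variable {C : Type u} [CommRing C] [IsLocalRing C]

/-- A retraction onto a submodule with flat quotient. -/
theorem exists_retraction (h : IsNilpotent (maximalIdeal C)) {M : Type v} [AddCommGroup M] [Module C M]
    (N : Submodule C M) [Module.Flat C (M ⧸ N)] :
    ∃ π : M →ₗ[C] N, ∀ x : N, π x = x := by
  have := Groth.Agent.ArtFlat.free_of_flat (M := M ⧸ N) h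
  obtain ⟨s, hs⟩ := Module.projective_lifting_property N.mkQ LinearMap.id N.mkQ_surjective
  have hmem : ∀ x, (LinearMap.id - s ∘ₗ N.mkQ : M →ₗ[C] M) x ∈ N := fun x => by
    rw [← Submodule.Quotient.mk_eq_zero]
    have := LinearMap.congr_fun hs (N.mkQ x)
    simp only [LinearMap.comp_apply, LinearMap.id_apply, Submodule.mkQ_apply] at this
    simp [Submodule.Quotient.mk_sub, this]
  refine ⟨(LinearMap.id - s ∘ₗ N.mkQ).codRestrict N hmem, fun x => Subtype.ext ?_⟩
  have h0 : N.mkQ (x : M) = 0 := (Submodule.Quotient.mk_eq_zero N).2 x.2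
  simp [h0]

theorem mem_smul_of_flat (h : IsNilpotent (maximalIdeal C)) {M : Type v} [AddCommGroup M] [Module C M]
    (N : Submodule C M) [Module.Flat C (M ⧸ N)] (I : Ideal C) {x : M} (hx : x ∈ N)
    (hxI : x ∈ I • (⊤ : Submodule C M)) : x ∈ I • N := by
  obtain ⟨π, hπ⟩ := exists_retraction h N
  have h1 := Submodule.mem_map_of_mem (f := N.subtype ∘ₗ π) hxI
  rw [Submodule.map_smul''] at h1
  have h2 : (N.subtype ∘ₗ π) x = x := congrArg Subtype.val (hπ ⟨x, hx⟩)
  rw [h2] at h1
  refine Submodule.smul_mono le_rfl ?_ h1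
  rintro _ ⟨y, -, rfl⟩
  exact (π y).2

theorem flat_of_flat_quotient (h : IsNilpotent (maximalIdeal C)) {M : Type v} [AddCommGroup M] [Module C M]
    [Module.Flat C M] (N : Submodule C M) [Module.Flat C (M ⧸ N)] : Module.Flat C N := by
  obtain ⟨π, hπ⟩ := exists_retraction h N
  exact Module.Flat.of_retract N.subtype π (LinearMap.ext fun x => hπ x)

omit [IsLocalRing C] in
/-- Nakayama for a nilpotent ideal. -/
theorem le_of_le_sup_smul {M : Type v} [AddCommGroup M] [Module C M] {I : Ideal C} (hI : IsNilpotent I)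
    {N K : Submodule C M} (h : N ≤ K ⊔ I • N) : N ≤ K := by
  obtain ⟨n, hn⟩ := hI
  have h2 : ∀ j : ℕ, N ≤ K ⊔ I ^ j • N := by
    intro j
    induction j with
    | zero => simp
    | succ j ih =>
      refine ih.trans (sup_le le_sup_left ?_)
      refine (Submodule.smul_mono le_rfl h).trans ?_
      rw [Submodule.smul_sup, ← Submodule.mul_smul, ← pow_succ]
      exact sup_le_sup_right Submodule.smul_le_right _
  have := h2 n
  rwa [hn, Submodule.zero_eq_bot, Submodule.bot_smul, sup_bot_eq] at this

omit [IsLocalRing C] in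
theorem mem_smul_pi {M : Type v} [AddCommGroup M] [Module C M] {ι : Type} [Fintype ι] [DecidableEq ι]
    (I : Ideal C) (x : ι → M) :
    x ∈ I • (⊤ : Submodule C (ι → M)) ↔ ∀ i, x i ∈ I • (⊤ : Submodule C M) := by
  constructor
  · intro hx i
    have := Submodule.mem_map_of_mem (f := (LinearMap.proj i : (ι → M) →ₗ[C] M)) hx
    rw [Submodule.map_smul''] at this
    exact Submodule.smul_mono le_rfl le_top this
  · intro hx
    rw [← Finset.univ_sum_single x]
    refine Submodule.sum_mem _ fun i _ => ?_
    have := Submodule.mem_map_of_mem (f := LinearMap.single C (fun _ => M) i) (hx i)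
    rw [Submodule.map_smul''] at this
    exact Submodule.smul_mono le_rfl le_top this

end Groth.Agent.DefTCodim2
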